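import Mathlib

/-!
Counting exponents: simplices, boxes, down-closed sets.
-/

set_option autoImplicit false

open Filter Topology

namespace Groth.Agent.LechLib

variable {r : ℕ}

/-- The exponents of total degree `d`. -/
def deg (r d : ℕ) : Finset (Fin r → ℕ) := (Finset.univ : Finset (Fin r)).piAntidiag d

theorem mem_deg {d : ℕ} {a : Fin r → ℕ} : a ∈ deg r d ↔ ∑ i, a i = d := by
  simp [deg]

/-- The exponents of total degree `< t`. -/
def simplex (r t : ℕ) : Finset (Fin r → ℕ) := (Finset.range t).biUnion (deg r)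

theorem mem_simplex {t : ℕ} {a : Fin r → ℕ} : a ∈ simplex r t ↔ ∑ i, a i < t := by
  simp [simplex, mem_deg]

/-- The exponents in the box `[0, n)^r`. -/
def box (r n : ℕ) : Finset (Fin r → ℕ) := Fintype.piFinset fun _ => Finset.range n

theorem mem_box {n : ℕ} {a : Fin r → ℕ} : a ∈ box r n ↔ ∀ i, a i < n := by
  simp [box]

theorem card_box (n : ℕ) : (box r n).card = n ^ r := by
  simp [box]

theorem simplex_subset_box (t : ℕ) : simplex r t ⊆ box r t := fun a ha =>
  mem_box.2 fun i => lt_of_le_of_lt (Finset.single_le_sum (fun j _ => Nat.zero_le (a j)) (Finset.mem_univ i))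
    (mem_simplex.1 ha)

theorem deg_disjoint {d e : ℕ} (h : d ≠ e) : Disjoint (deg r d) (deg r e) :=
  Finset.disjoint_left.2 fun _ ha hb => h ((mem_deg.1 ha).symm.trans (mem_deg.1 hb))

theorem card_deg (d : ℕ) : (deg r d).card = (r + d - 1).choose d := by
  have h := Finset.card_finsuppAntidiag_nat_eq_choose (s := (Finset.univ : Finset (Fin r))) d
  rw [Finset.card_univ, Fintype.card_fin] at h
  rw [← h]
  refine Finset.card_equiv Finsupp.equivFunOnFinite.symm fun a => ?_
  simp [deg, Finset.mem_finsuppAntidiag, Finsupp.equivFunOnFinite]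

theorem card_simplex_succ (t : ℕ) : (simplex r (t + 1)).card = (t + r).choose r := by
  have h : (simplex r (t + 1)).card = (deg (r + 1) t).card := by
    refine Finset.card_nbij' (fun a => Fin.cons (t - ∑ i, a i) a) Fin.tail ?_ ?_ ?_ ?_
    · intro a ha
      have := mem_simplex.1 (Finset.mem_coe.1 ha)
      rw [Finset.mem_coe, mem_deg, Fin.sum_univ_succ]
      simp only [Fin.cons_zero, Fin.cons_succ]
      omega
    · intro a ha
      have := mem_deg.1 (Finset.mem_coe.1 ha)
      rw [Fin.sum_univ_succ] at this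
      rw [Finset.mem_coe, mem_simplex]
      simp only [Fin.tail]
      omega
    · intro a _
      exact Fin.tail_cons _ _
    · intro a ha
      have := mem_deg.1 (Finset.mem_coe.1 ha)
      rw [Fin.sum_univ_succ] at this
      funext i
      refine Fin.cases ?_ (fun j => ?_) i
      · simp only [Fin.cons_zero, Fin.tail]
        omega
      · simp [Fin.tail]
  rw [h, card_deg, show r + 1 + t - 1 = t + r by omega, Nat.choose_symm_add]

theorem tendsto_simplex (r : ℕ) :
    Tendsto (fun t : ℕ => ((simplex r t).card : ℝ) / (t : ℝ) ^ r) atTop (𝓝 (1 / (r.factorial : ℝ))) := by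
  rw [← tendsto_add_atTop_iff_nat 1]
  have h1 : Tendsto (fun n : ℕ => ((n + r).choose r : ℝ) * (1 / ((n + r : ℕ) : ℝ)) ^ r) atTop
      (𝓝 (1 / (r.factorial : ℝ))) := by
    have h0 : Tendsto (fun n : ℕ => (n : ℝ) * (1 / (n : ℝ))) atTop (𝓝 1) := by
      refine tendsto_const_nhds.congr' ?_
      filter_upwards [eventually_ge_atTop 1] with n hn
      have : (n : ℝ) ≠ 0 := by exact_mod_cast (by omega : n ≠ 0)
      field_simp
    have := (ProbabilityTheory.tendsto_choose_mul_pow_atTop r h0).comp (tendsto_add_atTop_nat r)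
    simpa [Function.comp_def] using this
  have h2 : Tendsto (fun n : ℕ => (((n + r : ℕ) : ℝ) / ((n + 1 : ℕ) : ℝ)) ^ r) atTop (𝓝 1) := by
    have ha : Tendsto (fun n : ℕ => ((n + r : ℕ) : ℝ) / ((n + 1 : ℕ) : ℝ)) atTop (𝓝 1) := by
      have hb : Tendsto (fun n : ℕ => (1 : ℝ) + ((r : ℝ) - 1) * (1 / ((n + 1 : ℕ) : ℝ))) atTop (𝓝 (1 + ((r : ℝ) - 1) * 0)) := by
        refine tendsto_const_nhds.add (tendsto_const_nhds.mul ?_)
        exact tendsto_one_div_atTop_nhds_zero_nat.comp (tendsto_add_atTop_nat 1)
      rw [mul_zero, add_zero] at hb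
      refine hb.congr fun n => ?_
      have : ((n + 1 : ℕ) : ℝ) ≠ 0 := by exact_mod_cast Nat.succ_ne_zero n
      field_simp
      push_cast
      ring
    simpa using ha.pow r
  have := h1.mul h2
  rw [mul_one] at this
  refine this.congr' ?_
  filter_upwards [eventually_ge_atTop 1] with n hn
  rw [card_simplex_succ, div_pow, div_pow, one_pow]
  have : ((n + r : ℕ) : ℝ) ^ r ≠ 0 := pow_ne_zero _ (by exact_mod_cast (by omega : n + r ≠ 0))
  field_simp

/-- A set of exponents is down-closed. -/
def DownClosed (S : Set (Fin r → ℕ)) : Prop := ∀ a, a ∉ S → ∀ c, a + c ∉ S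

open Classical in
/-- Outside the full set, a down-closed set is small in every box. -/
theorem exists_bound_box {S : Set (Fin r → ℕ)} (hS : DownClosed S) (hne : S ≠ Set.univ) :
    ∃ C : ℕ, ∀ n : ℕ, ((box r n).filter (· ∈ S)).card * n ≤ C * n ^ r := by
  obtain ⟨a0, ha0⟩ := (Set.ne_univ_iff_exists_notMem S).1 hne
  refine ⟨∑ i, a0 i, fun n => ?_⟩
  have hsub : (box r n).filter (· ∈ S) ⊆ Finset.univ.biUnion fun i : Fin r =>
      Fintype.piFinset fun j => if j = i then Finset.range (a0 i) else Finset.range n := by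
    intro a ha
    obtain ⟨hb, hs⟩ := Finset.mem_filter.1 ha
    obtain ⟨i, hi⟩ : ∃ i, a i < a0 i := by
      by_contra hc
      push Not at hc
      exact hS a0 ha0 (a - a0) (by
        rwa [show a0 + (a - a0) = a from funext fun j => Nat.add_sub_cancel' (hc j)])
    refine Finset.mem_biUnion.2 ⟨i, Finset.mem_univ i, Fintype.mem_piFinset.2 fun j => ?_⟩
    by_cases hj : j = i
    · rw [if_pos hj]; subst hj; exact Finset.mem_range.2 hi
    · rw [if_neg hj]; exact Finset.mem_range.2 (mem_box.1 hb j)
  refine (Nat.mul_le_mul_right n ((Finset.card_le_card hsub).trans Finset.card_biUnion_le)).trans ?_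
  rw [Finset.sum_mul, Finset.sum_mul]
  refine Finset.sum_le_sum fun i _ => ?_
  rw [Fintype.card_piFinset, ← Finset.mul_prod_erase _ _ (Finset.mem_univ i), if_pos rfl, Finset.card_range]
  have hprod : ∏ j ∈ Finset.univ.erase i, (if j = i then Finset.range (a0 i) else Finset.range n).card
      = n ^ (r - 1) := by
    rw [Finset.prod_congr rfl (fun j hj => by rw [if_neg (Finset.ne_of_mem_erase hj), Finset.card_range]),
      Finset.prod_const, Finset.card_erase_of_mem (Finset.mem_univ i), Finset.card_univ, Fintype.card_fin]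
  rw [hprod, mul_assoc, ← pow_succ, Nat.sub_add_cancel i.pos]

end Groth.Agent.LechLib
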