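import Mathlib
import Groth.Agent.LechLib.Comb
import Groth.Agent.HilbSam.Main

/-!
Lengths of the layers of `I`-adic and Frobenius-type filtrations through monomials.
-/

set_option autoImplicit false

universe u

namespace Groth.Agent.LechLib

open Groth.Agent.HilbSam

variable {A : Type u} [CommRing A] {M : Type u} [AddCommGroup M] [Module A M]

section List

variable {κ : Type*} [LinearOrder κ]

theorem len_chain_step (W : Submodule A M) (e : M) (P : Ideal A) [P.IsMaximal]
    (hP : ∀ a ∈ P, a • e ∈ W) (he : e ∉ W) : len (W ⊔ A ∙ e) W = 1 := by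
  rw [len_sup, len]
  let g : A →ₗ[A] (M ⧸ W) := LinearMap.toSpanSingleton A _ (W.mkQ e)
  have hr : LinearMap.range g = (A ∙ e).map W.mkQ := by
    rw [Submodule.map_span, Set.image_singleton, LinearMap.range_toSpanSingleton]
  have hk : LinearMap.ker g = P := by
    refine (Ideal.IsMaximal.eq_of_le ‹_› ?_ fun a ha => ?_).symm
    · intro htop
      have h1 : (1 : A) ∈ LinearMap.ker g := by rw [htop]; trivial
      simp only [g, LinearMap.mem_ker, LinearMap.toSpanSingleton_apply, one_smul, Submodule.mkQ_apply,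
        Submodule.Quotient.mk_eq_zero] at h1
      exact he h1
    · simp only [g, LinearMap.mem_ker, LinearMap.toSpanSingleton_apply, Submodule.mkQ_apply]
      rw [← Submodule.Quotient.mk_smul, Submodule.Quotient.mk_eq_zero]
      exact hP a ha
  rw [← hr, ← g.quotKerEquivRange.length_eq, (Submodule.quotEquivOfEq _ _ hk).length_eq]
  exact Module.length_eq_one_iff.2 (isSimpleModule_iff_quot_maximal.2 ⟨P, ‹_›, ⟨LinearEquiv.refl A _⟩⟩)

open Classical in
theorem len_span_eq (W : Submodule A M) (e : κ → M) (P : κ → Ideal A) (hP : ∀ k, (P k).IsMaximal)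
    (s : Finset κ) (he : ∀ k ∈ s, ∀ a ∈ P k, a • e k ∈ W ⊔ Submodule.span A (e '' {k' | k' ∈ s ∧ k' < k})) :
    len (W ⊔ Submodule.span A (e '' ↑s)) W =
      ((s.filter fun k => e k ∉ W ⊔ Submodule.span A (e '' {k' | k' ∈ s ∧ k' < k})).card : ℕ∞) := by
  induction s using Finset.induction_on_max with
  | empty => simp [len_eq_zero]
  | insert k s hk ih =>
    have hks : k ∉ s := fun h => lt_irrefl k (hk k h)
    have hset : ∀ k' ∈ s, {x | x ∈ insert k s ∧ x < k'} = {x | x ∈ s ∧ x < k'} := by
      intro k' hk'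
      ext x
      simp only [Finset.mem_insert, Set.mem_setOf_eq]
      exact ⟨fun ⟨h, hx⟩ => ⟨h.resolve_left fun e => absurd (hk k' hk') (by rw [← e]; exact not_lt.2 hx.le), hx⟩,
        fun ⟨h, hx⟩ => ⟨Or.inr h, hx⟩⟩
    have hsetk : {x | x ∈ insert k s ∧ x < k} = (↑s : Set κ) := by
      ext x
      simp only [Finset.mem_insert, Set.mem_setOf_eq, Finset.mem_coe]
      exact ⟨fun ⟨h, hx⟩ => h.resolve_left hx.ne, fun h => ⟨Or.inr h, hk x h⟩⟩
    have ih' := ih (fun k' hk' a ha => by
      have := he k' (Finset.mem_insert_of_mem hk') a ha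
      rwa [hset k' hk'] at this)
    have hcoe : e '' ↑(insert k s) = insert (e k) (e '' ↑s) := by rw [Finset.coe_insert, Set.image_insert_eq]
    have htot : W ⊔ Submodule.span A (e '' ↑(insert k s)) =
        (W ⊔ Submodule.span A (e '' ↑s)) ⊔ A ∙ e k := by
      rw [hcoe, Submodule.span_insert, sup_comm (A ∙ e k), sup_assoc]
    have hfilt : (insert k s).filter (fun k' => e k' ∉ W ⊔ Submodule.span A (e '' {x | x ∈ insert k s ∧ x < k'}))
        = if e k ∉ W ⊔ Submodule.span A (e '' ↑s) then
            insert k (s.filter fun k' => e k' ∉ W ⊔ Submodule.span A (e '' {x | x ∈ s ∧ x < k'}))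
          else s.filter fun k' => e k' ∉ W ⊔ Submodule.span A (e '' {x | x ∈ s ∧ x < k'}) := by
      rw [Finset.filter_insert, hsetk]
      have : s.filter (fun k' => e k' ∉ W ⊔ Submodule.span A (e '' {x | x ∈ insert k s ∧ x < k'})) =
          s.filter fun k' => e k' ∉ W ⊔ Submodule.span A (e '' {x | x ∈ s ∧ x < k'}) :=
        Finset.filter_congr fun k' hk' => by rw [hset k' hk']
      rw [this]
    rw [hfilt, htot, len_add (R := W ⊔ Submodule.span A (e '' ↑s)) le_sup_left le_sup_left, ih']
    by_cases hek : e k ∈ W ⊔ Submodule.span A (e '' ↑s)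
    · rw [if_neg (not_not.2 hek), len_eq_zero (sup_le le_rfl ((Submodule.span_singleton_le_iff_mem _ _).2 hek)),
        add_zero]
    · haveI := hP k
      rw [if_pos hek, Finset.card_insert_of_notMem (fun h => hks (Finset.mem_filter.1 h).1),
        len_chain_step _ (e k) (P k) (fun a ha => by
          have := he k (Finset.mem_insert_self k s) a ha
          rwa [hsetk] at this) hek, Nat.cast_add, Nat.cast_one]

end List

section Series

theorem exists_series {N : Type u} [AddCommGroup N] [Module A N] (h : IsFiniteLength A N) :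
    ∃ (s : ℕ) (v : Fin s → N) (P : Fin s → Ideal A), (∀ j, (P j).IsMaximal) ∧
      Submodule.span A (Set.range v) = ⊤ ∧
      ∀ j, ∀ a ∈ P j, a • v j ∈ Submodule.span A (v '' {k | k < j}) := by
  induction h with
  | of_subsingleton => exact ⟨0, Fin.elim0, Fin.elim0, fun j => j.elim0, Subsingleton.elim _ _, fun j => j.elim0⟩
  | @of_simple_quotient N _ _ N' _ _ ih =>
    obtain ⟨s, v, P, hP, hv, hPv⟩ := ih
    obtain ⟨J, hJ, ⟨φ⟩⟩ := isSimpleModule_iff_quot_maximal.1 (inferInstance : IsSimpleModule A (N ⧸ N'))
    obtain ⟨m, hm⟩ := Submodule.Quotient.mk_surjective N' (φ.symm (Ideal.Quotient.mk J 1))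
    let w : Fin s → N := fun j => (v j : N)
    have hw : Submodule.span A (Set.range w) = N' := by
      have := congrArg (Submodule.map N'.subtype) hv
      rw [Submodule.map_span, ← Set.range_comp, Submodule.map_top, Submodule.range_subtype] at this
      exact this
    refine ⟨s + 1, Fin.snoc w m, Fin.snoc P J, fun j => ?_, ?_, fun j => ?_⟩
    · refine Fin.lastCases ?_ (fun j => ?_) j
      · rw [Fin.snoc_last]; exact hJ
      · rw [Fin.snoc_castSucc]; exact hP j
    · rw [Fin.range_snoc, Submodule.span_insert, hw, eq_top_iff]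
      intro x _
      obtain ⟨c, hc⟩ := Ideal.Quotient.mk_surjective (φ (Submodule.Quotient.mk x))
      refine Submodule.mem_sup.2 ⟨c • m, Submodule.smul_mem _ _ (Submodule.mem_span_singleton_self m),
        x - c • m, ?_, by abel⟩
      rw [← Submodule.Quotient.mk_eq_zero, Submodule.Quotient.mk_sub, Submodule.Quotient.mk_smul, hm,
        ← map_smul, sub_eq_zero]
      refine φ.injective ?_
      rw [φ.apply_symm_apply, ← hc]
      show Ideal.Quotient.mk J c = Ideal.Quotient.mk J (c * 1)
      rw [mul_one]
    · refine Fin.lastCases ?_ (fun j => ?_) j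
      · intro a ha
        rw [Fin.snoc_last] at ha
        rw [Fin.snoc_last]
        have h1 : (Fin.snoc w m : Fin (s + 1) → N) '' {k | k < Fin.last s} = Set.range w := by
          ext x
          constructor
          · rintro ⟨k, hk, rfl⟩
            obtain ⟨j, rfl⟩ := Fin.exists_castSucc_eq.2 (ne_of_lt hk)
            exact ⟨j, by rw [Fin.snoc_castSucc]⟩
          · rintro ⟨j, rfl⟩
            exact ⟨j.castSucc, Fin.castSucc_lt_last j, Fin.snoc_castSucc (α := fun _ => N) m w j⟩
        rw [h1, hw, ← Submodule.Quotient.mk_eq_zero, Submodule.Quotient.mk_smul, hm, ← map_smul]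
        refine φ.symm.map_eq_zero_iff.2 ?_
        show Ideal.Quotient.mk J (a * 1) = 0
        rw [mul_one, Ideal.Quotient.eq_zero_iff_mem]
        exact ha
      · intro a ha
        rw [Fin.snoc_castSucc] at ha
        rw [Fin.snoc_castSucc]
        have h1 := Submodule.mem_map_of_mem (f := N'.subtype) (hPv j a ha)
        rw [Submodule.map_span, ← Set.image_comp] at h1
        refine SetLike.le_def.1 (Submodule.span_mono ?_) h1
        rintro _ ⟨k, hk, rfl⟩
        exact ⟨k.castSucc, Fin.castSucc_lt_castSucc_iff.2 hk, Fin.snoc_castSucc (α := fun _ => N) m w k⟩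

end Series

end Groth.Agent.LechLib
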