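import Mathlib
import Groth.Agent.LechLib.Filt

/-!
Lech's limit formula: `ℓ(M/(x^n)M)/n^r` and `r! ℓ(M/I^tM)/t^r` have the same limit, an integer.
-/

set_option autoImplicit false

universe u

open Filter Topology

namespace Groth.Agent.LechLib

open Groth.Agent.HilbSam

variable {A : Type u} [CommRing A] {M : Type u} [AddCommGroup M] [Module A M] {r : ℕ}

/-- A monomial in the `x i`. -/
def mon (x : Fin r → A) (a : Fin r → ℕ) : A := ∏ i, x i ^ a i

theorem mon_add (x : Fin r → A) (a b : Fin r → ℕ) : mon x (a + b) = mon x a * mon x b := by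
  simp only [mon, Pi.add_apply, pow_add, Finset.prod_mul_distrib]

theorem mon_single (x : Fin r → A) (i : Fin r) : mon x (Pi.single i 1) = x i := by
  rw [mon, Finset.prod_eq_single i (fun j _ hj => by rw [Pi.single_eq_of_ne hj, pow_zero])
    (fun h => absurd (Finset.mem_univ i) h), Pi.single_eq_same, pow_one]

theorem mon_zero (x : Fin r → A) : mon x 0 = 1 := by simp [mon]

theorem mon_mem_pow (x : Fin r → A) (a : Fin r → ℕ) :
    mon x a ∈ Ideal.span (Set.range x) ^ ∑ i, a i := by
  rw [mon, ← Finset.prod_pow_eq_pow_sum]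
  exact Ideal.prod_mem_prod fun i _ => Ideal.pow_mem_pow (Ideal.subset_span (Set.mem_range_self i)) _

theorem pow_eq_span (x : Fin r → A) : ∀ d : ℕ,
    Ideal.span (Set.range x) ^ d = Ideal.span (mon x '' ↑(deg r d))
  | 0 => by
    rw [pow_zero, Ideal.one_eq_top]
    refine (Ideal.eq_top_iff_one _ |>.2 ?_).symm
    exact Ideal.subset_span ⟨0, mem_deg.2 (by simp), mon_zero x⟩
  | d + 1 => by
    refine le_antisymm ?_ ?_
    · rw [pow_succ', pow_eq_span x d, Ideal.span_mul_span', Ideal.span_le]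
      rintro _ ⟨_, ⟨i, rfl⟩, _, ⟨b, hb, rfl⟩, rfl⟩
      refine Ideal.subset_span ⟨Pi.single i 1 + b, mem_deg.2 ?_, ?_⟩
      · simp only [Pi.add_apply, Finset.sum_add_distrib, Finset.sum_pi_single', Finset.mem_univ, if_true,
          mem_deg.1 hb]
        omega
      · rw [mon_add, mon_single]
    · rw [Ideal.span_le]
      rintro _ ⟨b, hb, rfl⟩
      rw [← mem_deg.1 hb]
      exact mon_mem_pow x b

section New

variable (x : Fin r → A) {s : ℕ} (v : Fin s → M) (P : Fin s → Ideal A)

/-- The `d`-th step of the `I`-adic filtration. -/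
abbrev Fl (d : ℕ) : Submodule A M := Ideal.span (Set.range x) ^ d • ⊤

/-- The element attached to an index. -/
def el (k : Fin s ×ₗ Lex (Fin r → ℕ)) : M := mon x (ofLex (ofLex k).2) • v (ofLex k).1

/-- The indices in degree `d`. -/
def idx (r s d : ℕ) : Finset (Fin s ×ₗ Lex (Fin r → ℕ)) :=
  ((Finset.univ : Finset (Fin s)) ×ˢ deg r d).map
    ⟨fun p => toLex (p.1, toLex p.2), fun p q h => by
      have := toLex.injective h
      simp only [Prod.mk.injEq] at this
      exact Prod.ext this.1 (toLex.injective this.2)⟩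

theorem mem_idx {d : ℕ} {k : Fin s ×ₗ Lex (Fin r → ℕ)} :
    k ∈ idx r s d ↔ ∑ i, ofLex (ofLex k).2 i = d := by
  simp only [idx, Finset.mem_map, Finset.mem_product, Finset.mem_univ, true_and, mem_deg]
  constructor
  · rintro ⟨p, hp, rfl⟩
    simpa using hp
  · intro h
    exact ⟨((ofLex k).1, ofLex (ofLex k).2), h, rfl⟩

/-- The indices of degree `|k|` before `k`. -/
def before (k : Fin s ×ₗ Lex (Fin r → ℕ)) : Submodule A M :=
  Fl x (∑ i, ofLex (ofLex k).2 i + 1) ⊔
    Submodule.span A (el x v '' {k' | k' ∈ idx r s (∑ i, ofLex (ofLex k).2 i) ∧ k' < k})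

/-- The exponents giving a new element. -/
def Nw (j : Fin s) : Set (Fin r → ℕ) :=
  {a | el x v (toLex (j, toLex a)) ∉ before x v (toLex (j, toLex a))}

variable (hv : ⊤ ≤ Ideal.span (Set.range x) • (⊤ : Submodule A M) ⊔ Submodule.span A (Set.range v))
variable (hP : ∀ j, (P j).IsMaximal)
variable (hPv : ∀ j, ∀ a ∈ P j, a • v j ∈
  Ideal.span (Set.range x) • (⊤ : Submodule A M) ⊔ Submodule.span A (v '' {k | k < j}))

theorem smul_Fl_le (d : ℕ) (c : Fin r → ℕ) {m : M} (hm : m ∈ Fl x d) :
    mon x c • m ∈ Fl x (∑ i, c i + d) := by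
  have h := Submodule.smul_mem_smul (mon_mem_pow x c) hm
  change _ ∈ Ideal.span (Set.range x) ^ (∑ i, c i) • (Ideal.span (Set.range x) ^ d • (⊤ : Submodule A M)) at h
  rwa [← Submodule.mul_smul, ← pow_add] at h

theorem downClosed_Nw (j : Fin s) : DownClosed (Nw x v j) := by
  intro a ha c hc
  simp only [Nw, Set.mem_setOf_eq, not_not] at ha
  refine hc ?_
  have hsum : ∑ i, (a + c) i = ∑ i, c i + ∑ i, a i := by
    simp only [Pi.add_apply, Finset.sum_add_distrib]; ring
  have hel : el x v (toLex (j, toLex (a + c))) = mon x c • el x v (toLex (j, toLex a)) := by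
    show mon x (a + c) • v j = mon x c • mon x a • v j
    rw [smul_smul, ← mon_add, add_comm c a]
  rw [hel]
  have hmap := Submodule.mem_map_of_mem (f := LinearMap.lsmul A M (mon x c)) ha
  refine SetLike.le_def.1 ?_ hmap
  rw [before, Submodule.map_sup, Submodule.map_span, before]
  refine sup_le_sup ?_ (Submodule.span_mono ?_)
  · rintro _ ⟨m, hm, rfl⟩
    have := smul_Fl_le x _ c hm
    show mon x c • m ∈ Fl x (∑ i, (a + c) i + 1)
    rwa [hsum, add_assoc]
  · rintro _ ⟨_, ⟨k, ⟨hk, hlt⟩, rfl⟩, rfl⟩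
    refine ⟨toLex ((ofLex k).1, toLex (ofLex (ofLex k).2 + c)), ⟨mem_idx.2 ?_, ?_⟩, ?_⟩
    · have h1 := mem_idx.1 hk
      simp only [ofLex_toLex, Pi.add_apply, Finset.sum_add_distrib] at h1 ⊢
      omega
    · rw [Prod.Lex.lt_iff] at hlt ⊢
      simp only [ofLex_toLex] at hlt ⊢
      rcases hlt with h | ⟨h1, h2⟩
      · exact Or.inl h
      · refine Or.inr ⟨h1, ?_⟩
        have := add_lt_add_left h2 (toLex c)
        exact lt_of_eq_of_lt (show toLex (ofLex (ofLex k).2 + c) = toLex (ofLex (ofLex k).2) + toLex c from rfl)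
          (by first | exact this | (rw [add_comm (toLex c), add_comm (toLex c)] at this; exact this))
    · show mon x (ofLex (ofLex k).2 + c) • v (ofLex k).1 = mon x c • mon x (ofLex (ofLex k).2) • v (ofLex k).1
      rw [smul_smul, ← mon_add, add_comm c]

include hv in
theorem Fl_eq (d : ℕ) :
    Fl (M := M) x d = Fl x (d + 1) ⊔ Submodule.span A (el x v '' ↑(idx r s d)) := by
  refine le_antisymm ?_ (sup_le (Submodule.smul_mono_left (Ideal.pow_le_pow_right d.le_succ)) ?_)
  · show Ideal.span (Set.range x) ^ d • (⊤ : Submodule A M) ≤ _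
    refine (Submodule.smul_mono le_rfl hv).trans ?_
    rw [Submodule.smul_sup, ← Submodule.mul_smul, ← pow_succ, pow_eq_span x d, Ideal.span,
      Submodule.span_smul_span]
    refine sup_le_sup le_rfl (Submodule.span_mono ?_)
    rintro _ ⟨_, ⟨a, ha, rfl⟩, _, ⟨j, rfl⟩, rfl⟩
    exact ⟨toLex (j, toLex a), mem_idx.2 (mem_deg.1 ha), rfl⟩
  · rw [Submodule.span_le]
    rintro _ ⟨k, hk, rfl⟩
    refine Submodule.smul_mem_smul ?_ trivial
    rw [← mem_idx.1 hk]
    exact mon_mem_pow x _

include hPv in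
theorem killed {d : ℕ} {k : Fin s ×ₗ Lex (Fin r → ℕ)} (hk : k ∈ idx r s d) {a : A} (ha : a ∈ P (ofLex k).1) :
    a • el x v k ∈ Fl x (d + 1) ⊔ Submodule.span A (el x v '' {k' | k' ∈ idx r s d ∧ k' < k}) := by
  have hmap := Submodule.mem_map_of_mem (f := LinearMap.lsmul A M (mon x (ofLex (ofLex k).2))) (hPv _ a ha)
  rw [show a • el x v k = mon x (ofLex (ofLex k).2) • a • v (ofLex k).1 from smul_comm _ _ _]
  refine SetLike.le_def.1 ?_ hmap
  rw [Submodule.map_sup, Submodule.map_span]
  refine sup_le_sup ?_ (Submodule.span_mono ?_)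
  · rintro _ ⟨m, hm, rfl⟩
    have := smul_Fl_le x 1 (ofLex (ofLex k).2) (m := m) (by simpa [Fl] using hm)
    rwa [mem_idx.1 hk] at this
  · rintro _ ⟨_, ⟨j, hj, rfl⟩, rfl⟩
    refine ⟨toLex (j, (ofLex k).2), ⟨mem_idx.2 (by simpa using mem_idx.1 hk), Prod.Lex.lt_iff.2 (Or.inl hj)⟩, rfl⟩

open Classical in
/-- The new indices among a set of exponents. -/
noncomputable def nw (S : Finset (Fin r → ℕ)) (j : Fin s) : ℕ := (S.filter (· ∈ Nw x v j)).card

open Classical in
theorem card_filter_idx (d : ℕ) :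
    ((idx r s d).filter fun k => ofLex (ofLex k).2 ∈ Nw x v (ofLex k).1).card =
      ∑ j, nw x v (deg r d) j := by
  rw [idx, Finset.filter_map, Finset.card_map, Finset.card_filter, Finset.sum_product]
  refine Finset.sum_congr rfl fun j _ => ?_
  rw [nw, Finset.card_filter]
  rfl

include hv hP hPv in
open Classical in
theorem len_Fl (d : ℕ) :
    len (Fl (M := M) x d) (Fl x (d + 1)) = ((∑ j, nw x v (deg r d) j : ℕ) : ℕ∞) := by
  conv_lhs => arg 1; rw [Fl_eq x v hv d]
  rw [len_span_eq (Fl x (d + 1)) (el x v) (fun k => P (ofLex k).1) (fun k => hP _) _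
    (fun k hk a ha => killed x v P hPv hk ha), ← card_filter_idx x v d]
  congr 2
  refine Finset.filter_congr fun k hk => ?_
  have : before x v k = Fl x (d + 1) ⊔ Submodule.span A (el x v '' {k' | k' ∈ idx r s d ∧ k' < k}) := by
    rw [before, mem_idx.1 hk]
  show _ ↔ el x v k ∉ before x v k
  rw [this]

open Classical in
theorem nw_simplex_succ (t : ℕ) (j : Fin s) :
    nw x v (simplex r (t + 1)) j = nw x v (simplex r t) j + nw x v (deg r t) j := by
  rw [nw, nw, nw, ← Finset.card_union_of_disjoint]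
  · rw [← Finset.filter_union]
    congr 2
    rw [simplex, simplex, Finset.range_add_one, Finset.biUnion_insert, Finset.union_comm]
  · refine Finset.disjoint_filter_filter (Finset.disjoint_left.2 fun a ha hb => ?_)
    exact absurd (mem_simplex.1 ha) (by rw [mem_deg.1 hb]; exact lt_irrefl t)

include hv hP hPv in
theorem len_top_Fl : ∀ t : ℕ, len ⊤ (Fl (M := M) x t) = ((∑ j, nw x v (simplex r t) j : ℕ) : ℕ∞)
  | 0 => by
    have : simplex r 0 = ∅ := by simp [simplex]
    rw [len_eq_zero (by simp [Fl]), this]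
    simp [nw]
  | t + 1 => by
    rw [len_add (R := Fl x t) (Submodule.smul_mono_left (Ideal.pow_le_pow_right t.le_succ)) le_top,
      len_Fl x v P hv hP hPv t, len_top_Fl t, ← Nat.cast_add, ← Finset.sum_add_distrib]
    simp only [nw_simplex_succ, add_comm]

/-- The submodule `(x_1^n, …, x_r^n) M`. -/
abbrev Yn (n : ℕ) : Submodule A M := Ideal.span (Set.range fun i => x i ^ n) • ⊤

theorem mon_mem_span_pow {n : ℕ} {a : Fin r → ℕ} (ha : a ∉ box r n) :
    mon x a ∈ Ideal.span (Set.range fun i => x i ^ n) := by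
  rw [mem_box] at ha
  push Not at ha
  obtain ⟨i, hi⟩ := ha
  rw [mon, ← Finset.mul_prod_erase _ _ (Finset.mem_univ i)]
  refine Ideal.mul_mem_right _ _ ?_
  rw [← Nat.sub_add_cancel hi, pow_add]
  exact Ideal.mul_mem_left _ _ (Ideal.subset_span ⟨i, rfl⟩)

theorem el_mem_Yn {n : ℕ} {k : Fin s ×ₗ Lex (Fin r → ℕ)} (hk : ofLex (ofLex k).2 ∉ box r n) :
    el x v k ∈ Yn (M := M) x n :=
  Submodule.smul_mem_smul (mon_mem_span_pow x hk) trivial

include hv hP hPv in
open Classical in
theorem len_Zl (n d : ℕ) :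
    len (Fl (M := M) x d ⊔ Yn x n) (Fl x (d + 1) ⊔ Yn x n) ≤
      ((∑ j, nw x v (deg r d ∩ box r n) j : ℕ) : ℕ∞) := by
  set S := (idx r s d).filter fun k => ofLex (ofLex k).2 ∈ box r n with hS
  set W := Fl (M := M) x (d + 1) ⊔ Yn x n with hW
  have hspan : Submodule.span A (el x v '' ↑(idx r s d)) ≤ W ⊔ Submodule.span A (el x v '' ↑S) := by
    rw [Submodule.span_le]
    rintro _ ⟨k, hk, rfl⟩
    by_cases hb : ofLex (ofLex k).2 ∈ box r n
    · exact Submodule.mem_sup_right (Submodule.subset_span ⟨k, Finset.mem_filter.2 ⟨hk, hb⟩, rfl⟩)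
    · exact Submodule.mem_sup_left (Submodule.mem_sup_right (el_mem_Yn x v hb))
  have hlt : ∀ k, Submodule.span A (el x v '' {k' | k' ∈ idx r s d ∧ k' < k}) ≤
      W ⊔ Submodule.span A (el x v '' {k' | k' ∈ S ∧ k' < k}) := fun k => by
    rw [Submodule.span_le]
    rintro _ ⟨k', ⟨hk', hlt'⟩, rfl⟩
    by_cases hb : ofLex (ofLex k').2 ∈ box r n
    · exact Submodule.mem_sup_right (Submodule.subset_span ⟨k', ⟨Finset.mem_filter.2 ⟨hk', hb⟩, hlt'⟩, rfl⟩)
    · exact Submodule.mem_sup_left (Submodule.mem_sup_right (el_mem_Yn x v hb))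
  have htot : Fl (M := M) x d ⊔ Yn x n = W ⊔ Submodule.span A (el x v '' ↑S) := by
    refine le_antisymm (sup_le ?_ (le_sup_of_le_left le_sup_right)) (sup_le (sup_le ?_ le_sup_right) ?_)
    · rw [Fl_eq x v hv d]
      exact sup_le (le_sup_of_le_left le_sup_left) hspan
    · exact le_sup_of_le_left (Submodule.smul_mono_left (Ideal.pow_le_pow_right d.le_succ))
    · refine le_sup_of_le_left ?_
      rw [Fl_eq x v hv d]
      exact le_sup_of_le_right (Submodule.span_mono (Set.image_mono (Finset.coe_subset.2 (Finset.filter_subset _ _))))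
  rw [htot, len_span_eq W (el x v) (fun k => P (ofLex k).1) (fun k => hP _) S (fun k hk a ha => by
    have := killed x v P hPv (Finset.mem_filter.1 hk).1 ha
    exact (sup_le (le_sup_of_le_left le_sup_left) (hlt k)) this)]
  refine Nat.cast_le.2 ?_
  refine le_trans (Finset.card_le_card (t := ((idx r s d).filter fun k =>
    ofLex (ofLex k).2 ∈ Nw x v (ofLex k).1 ∧ ofLex (ofLex k).2 ∈ box r n)) fun k hk => ?_) ?_
  · obtain ⟨hkS, hnew⟩ := Finset.mem_filter.1 hk
    obtain ⟨hkd, hb⟩ := Finset.mem_filter.1 hkS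
    refine Finset.mem_filter.2 ⟨hkd, fun hmem => hnew ?_, hb⟩
    change el x v k ∈ before x v k at hmem
    rw [before, mem_idx.1 hkd] at hmem
    exact (sup_le (le_sup_of_le_left le_sup_left) (hlt k)) hmem
  · rw [idx, Finset.filter_map, Finset.card_map, Finset.card_filter, Finset.sum_product]
    refine le_of_eq (Finset.sum_congr rfl fun j _ => ?_)
    rw [nw, ← Finset.card_filter]
    congr 1
    ext a
    simp [and_comm, and_left_comm, and_assoc]

include hv hP hPv in
open Classical in
theorem len_top_Yn (n : ℕ) :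
    len ⊤ (Yn (M := M) x n) ≤ ((∑ j, nw x v (box r n) j : ℕ) : ℕ∞) := by
  have main : ∀ t, len ⊤ (Fl (M := M) x t ⊔ Yn x n) ≤ ((∑ j, nw x v (simplex r t ∩ box r n) j : ℕ) : ℕ∞) := by
    intro t
    induction t with
    | zero => rw [len_eq_zero (by simp [Fl])]; exact zero_le
    | succ t ih =>
      rw [len_add (R := Fl x t ⊔ Yn x n) (sup_le_sup_right
        (Submodule.smul_mono_left (Ideal.pow_le_pow_right t.le_succ)) _) le_top]
      refine (add_le_add (len_Zl x v P hv hP hPv n t) ih).trans_eq ?_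
      rw [← Nat.cast_add, ← Finset.sum_add_distrib]
      congr 1
      refine Finset.sum_congr rfl fun j _ => ?_
      rw [nw, nw, nw, ← Finset.card_union_of_disjoint]
      · rw [← Finset.filter_union, ← Finset.union_inter_distrib_right]
        congr 3
        rw [simplex, simplex, Finset.range_add_one, Finset.biUnion_insert]
      · refine Finset.disjoint_filter_filter (Finset.disjoint_left.2 fun a ha hb => ?_)
        exact absurd (mem_simplex.1 (Finset.mem_inter.1 hb).1)
          (by rw [mem_deg.1 (Finset.mem_inter.1 ha).1]; exact lt_irrefl t)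
  have hbig : Fl (M := M) x (r * n + 1) ≤ Yn x n := by
    refine Submodule.smul_mono_left ?_
    rw [pow_eq_span, Ideal.span_le]
    rintro _ ⟨a, ha, rfl⟩
    refine mon_mem_span_pow x fun hb => ?_
    have h1 : ∑ i, a i ≤ ∑ _i : Fin r, n := Finset.sum_le_sum fun i _ => (mem_box.1 hb i).le
    simp only [Finset.sum_const, Finset.card_univ, Fintype.card_fin, smul_eq_mul] at h1
    rw [mem_deg.1 ha] at h1
    omega
  have := main (r * n + 1)
  rw [sup_eq_right.2 hbig] at this
  refine this.trans (Nat.cast_le.2 (Finset.sum_le_sum fun j _ => ?_))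
  exact Finset.card_le_card (Finset.filter_subset_filter _ Finset.inter_subset_right)

end New

section Pow

/-- `ℓ(M / Y^k M) ≤ #simplex(k) · ℓ(M / Y M)`. -/
theorem len_pow_le (y : Fin r → A) : ∀ k : ℕ,
    len ⊤ (Ideal.span (Set.range y) ^ k • (⊤ : Submodule A M)) ≤
      ((simplex r k).card : ℕ∞) * len ⊤ (Ideal.span (Set.range y) • (⊤ : Submodule A M))
  | 0 => by rw [len_eq_zero (by simp)]; exact zero_le
  | k + 1 => by
    set J := Ideal.span (Set.range y) with hJ
    rw [len_add (R := J ^ k • (⊤ : Submodule A M))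
      (Submodule.smul_mono_left (Ideal.pow_le_pow_right k.le_succ)) le_top]
    have hcard : (simplex r (k + 1)).card = (deg r k).card + (simplex r k).card := by
      rw [simplex, simplex, Finset.range_add_one, Finset.biUnion_insert, Finset.card_union_of_disjoint]
      refine Finset.disjoint_left.2 fun a ha hb => ?_
      exact absurd (mem_simplex.1 hb) (by rw [mem_deg.1 ha]; exact lt_irrefl k)
    rw [hcard, Nat.cast_add, add_mul]
    refine add_le_add ?_ (len_pow_le y k)
    let Q := M ⧸ (J • (⊤ : Submodule A M))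
    let gm : deg r k → Q →ₗ[A] M ⧸ (J ^ (k + 1) • (⊤ : Submodule A M)) := fun a =>
      Submodule.mapQ _ _ (mon y a.1 • LinearMap.id) (by
        intro m hm
        have := Submodule.smul_mem_smul (mon_mem_pow y a.1) hm
        rw [← Submodule.mul_smul, mem_deg.1 a.2, ← pow_succ] at this
        exact this)
    let G : (deg r k → Q) →ₗ[A] M ⧸ (J ^ (k + 1) • (⊤ : Submodule A M)) :=
      LinearMap.lsum A (fun _ => Q) A gm
    have hle : (J ^ k • (⊤ : Submodule A M)).map (J ^ (k + 1) • (⊤ : Submodule A M)).mkQ ≤ LinearMap.range G := by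
      rw [Submodule.map_le_iff_le_comap]
      suffices H : Submodule.span A (mon y '' ↑(deg r k)) • Submodule.span A (Set.univ : Set M) ≤
          Submodule.comap (J ^ (k + 1) • (⊤ : Submodule A M)).mkQ (LinearMap.range G) by
        rw [Submodule.span_univ] at H
        refine le_trans (Submodule.smul_mono_left (le_of_eq ?_)) H
        rw [hJ, pow_eq_span y k]
      rw [Submodule.span_smul_span, Submodule.span_le]
      rintro _ ⟨_, ⟨a, ha, rfl⟩, m, -, rfl⟩
      refine ⟨Pi.single ⟨a, ha⟩ (Submodule.Quotient.mk m), ?_⟩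
      simp only [G, LinearMap.lsum_apply, LinearMap.coe_sum, Finset.sum_apply, LinearMap.comp_apply,
        LinearMap.proj_apply]
      rw [Finset.sum_eq_single (⟨a, ha⟩ : deg r k) (fun b _ hb => by rw [Pi.single_eq_of_ne hb, map_zero])
        (fun h => absurd (Finset.mem_univ _) h), Pi.single_eq_same]
      rfl
    refine (Module.length_le_of_injective _ (Submodule.inclusion_injective hle)).trans ?_
    refine (Module.length_le_of_surjective _ G.surjective_rangeRestrict).trans (le_of_eq ?_)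
    rw [Module.length_pi, ENat.card_eq_coe_fintype_card, Fintype.card_coe]
    congr 1
    rw [len, Submodule.map_top, Submodule.range_mkQ, Module.length_top]

end Pow

theorem len_top (N : Submodule A M) : len ⊤ N = Module.length A (M ⧸ N) := by
  rw [len, Submodule.map_top, Submodule.range_mkQ, Module.length_top]

/-- **Lech's limit formula.** -/
theorem exists_limit (x : Fin r → A)
    (h : IsFiniteLength A (M ⧸ (Ideal.span (Set.range x) • (⊤ : Submodule A M)))) :
    ∃ e : ℕ,
      Tendsto (fun t : ℕ => ((Module.length A (M ⧸ (Ideal.span (Set.range x) ^ t •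
        (⊤ : Submodule A M)))).toNat : ℝ) / (t : ℝ) ^ r) atTop (𝓝 ((e : ℝ) / r.factorial)) ∧
      Tendsto (fun n : ℕ => ((Module.length A (M ⧸ (Ideal.span (Set.range fun i => x i ^ n) •
        (⊤ : Submodule A M)))).toNat : ℝ) / (n : ℝ) ^ r) atTop (𝓝 (e : ℝ)) := by
  classical
  set J := Ideal.span (Set.range x) with hJ
  obtain ⟨s, w, P, hP, hw, hPw⟩ := exists_series h
  choose v hvw using fun j => Submodule.Quotient.mk_surjective _ (w j)
  have hvw' : w = (J • (⊤ : Submodule A M)).mkQ ∘ v := funext fun j => (hvw j).symm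
  have hv : ⊤ ≤ J • (⊤ : Submodule A M) ⊔ Submodule.span A (Set.range v) := by
    rw [hvw', Set.range_comp, ← Submodule.map_span] at hw
    rw [← Submodule.comap_map_mkQ, hw, Submodule.comap_top]
  have hPv : ∀ j, ∀ a ∈ P j, a • v j ∈ J • (⊤ : Submodule A M) ⊔ Submodule.span A (v '' {k | k < j}) := by
    intro j a ha
    have := hPw j a ha
    rw [hvw', Set.image_comp, ← Submodule.map_span] at this
    rw [← Submodule.comap_map_mkQ]
    exact this
  let full := Finset.univ.filter fun j : Fin s => Nw x v j = Set.univ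
  let e := full.card
  have hCj : ∀ j, ∃ C : ℕ, j ∉ full → ∀ n : ℕ, nw x v (box r n) j * n ≤ C * n ^ r := by
    intro j
    by_cases hj : j ∈ full
    · exact ⟨0, fun hj' => absurd hj hj'⟩
    · obtain ⟨C, hC⟩ := exists_bound_box (downClosed_Nw x v j) (fun hu => hj (Finset.mem_filter.2 ⟨Finset.mem_univ j, hu⟩))
      refine ⟨C, fun _ n => ?_⟩
      refine le_of_eq_of_le ?_ (hC n)
      rw [nw]
  choose C hC using hCj
  let K := ∑ j, C j
  have hfull : ∀ (S : Finset (Fin r → ℕ)), ∀ j ∈ full, nw x v S j = S.card := fun S j hj => by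
    rw [nw, Finset.filter_true_of_mem fun a _ => by rw [(Finset.mem_filter.1 hj).2]; trivial]
  have lower : ∀ S : Finset (Fin r → ℕ), e * S.card ≤ ∑ j, nw x v S j := fun S => by
    refine le_trans ?_ (Finset.sum_le_univ_sum_of_nonneg (s := full) fun j => Nat.zero_le _)
    rw [Finset.sum_congr rfl (hfull S), Finset.sum_const, smul_eq_mul]
  have upper : ∀ (n : ℕ) (S : Finset (Fin r → ℕ)), S ⊆ box r n →
      (∑ j, nw x v S j) * n ≤ e * S.card * n + K * n ^ r := fun n S hS => by
    rw [← Finset.sum_add_sum_compl full (nw x v S), Finset.sum_congr rfl (hfull S), Finset.sum_const,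
      smul_eq_mul, add_mul]
    refine add_le_add le_rfl ?_
    rw [Finset.sum_mul, Finset.sum_mul]
    refine (Finset.sum_le_sum (g := fun j => C j * n ^ r) fun j hj => ?_).trans
      (Finset.sum_le_univ_sum_of_nonneg fun j => Nat.zero_le _)
    refine le_trans (Nat.mul_le_mul_right n ?_) (hC j (Finset.mem_compl.1 hj) n)
    exact Finset.card_le_card (Finset.filter_subset_filter _ hS)
  let a : ℕ → ℕ := fun t => ∑ j, nw x v (simplex r t) j
  have hlenI : ∀ t, Module.length A (M ⧸ (J ^ t • (⊤ : Submodule A M))) = (a t : ℕ∞) := fun t => by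
    rw [← len_top]; exact len_top_Fl x v P hv hP hPv t
  let L : ℕ → ℕ := fun n => (Module.length A (M ⧸ (Ideal.span (Set.range fun i => x i ^ n) •
    (⊤ : Submodule A M)))).toNat
  have hL1 : ∀ n, Module.length A (M ⧸ (Ideal.span (Set.range fun i => x i ^ n) • (⊤ : Submodule A M))) ≤
      ((∑ j, nw x v (box r n) j : ℕ) : ℕ∞) := fun n => by
    rw [← len_top]; exact len_top_Yn x v P hv hP hPv n
  have hLcast : ∀ n, (L n : ℕ∞) = Module.length A (M ⧸ (Ideal.span (Set.range fun i => x i ^ n) •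
      (⊤ : Submodule A M))) := fun n =>
    ENat.coe_toNat (ne_top_of_le_ne_top (ENat.natCast_ne_top _) (hL1 n))
  have hkey : ∀ n k, e * (simplex r (n * k)).card ≤ (simplex r k).card * L n := fun n k => by
    refine le_trans (lower _) ?_
    have h1 : Module.length A (M ⧸ (J ^ (n * k) • (⊤ : Submodule A M))) ≤
        ((simplex r k).card : ℕ∞) * (L n : ℕ∞) := by
      rw [hLcast, ← len_top, ← len_top]
      refine le_trans ?_ (len_pow_le (fun i => x i ^ n) k)
      refine len_anti (Submodule.smul_mono_left ?_) le_top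
      rw [pow_mul]
      refine Ideal.pow_right_mono ?_ k
      rw [Ideal.span_le]
      rintro _ ⟨i, rfl⟩
      exact Ideal.pow_mem_pow (Ideal.subset_span (Set.mem_range_self i)) n
    rw [hlenI, ← Nat.cast_mul] at h1
    exact Nat.cast_le.1 h1
  have hfac : (0 : ℝ) < r.factorial := Nat.cast_pos.2 r.factorial_pos
  have hlow : ∀ n : ℕ, (e : ℝ) * (n : ℝ) ^ r ≤ (L n : ℝ) := by
    intro n
    rcases Nat.eq_zero_or_pos n with hn | hn
    · subst hn
      rcases Nat.eq_zero_or_pos r with hr | hr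
      · subst hr
        have := hkey 1 1
        have h1 : (simplex 0 1).card = 1 := by rw [card_simplex_succ]; simp
        rw [mul_one, h1, mul_one, one_mul] at this
        have h2 : L 0 = L 1 := by
          simp only [L]
          rw [Set.range_eq_empty, Set.range_eq_empty]
        rw [pow_zero, mul_one, h2]
        exact_mod_cast this
      · rw [Nat.cast_zero, zero_pow (by omega), mul_zero]; exact Nat.cast_nonneg _
    have t1 : Tendsto (fun k : ℕ => (e : ℝ) * ((simplex r (n * k)).card / ((n * k : ℕ) : ℝ) ^ r) * (n : ℝ) ^ r)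
        atTop (𝓝 ((e : ℝ) * (1 / r.factorial) * (n : ℝ) ^ r)) :=
      (((tendsto_simplex r).comp (Filter.tendsto_atTop_mono (fun k => Nat.le_mul_of_pos_left k hn)
        tendsto_id)).const_mul _).mul_const _
    have t2 : Tendsto (fun k : ℕ => ((simplex r k).card : ℝ) / (k : ℝ) ^ r * (L n : ℝ)) atTop
        (𝓝 ((1 / r.factorial) * (L n : ℝ))) := (tendsto_simplex r).mul_const _
    have h2 := le_of_tendsto_of_tendsto t1 t2 (by
      filter_upwards [eventually_ge_atTop 1] with k hk
      have hk0 : (0 : ℝ) < (k : ℝ) ^ r := pow_pos (Nat.cast_pos.2 hk) r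
      have hn0 : (n : ℝ) ^ r ≠ 0 := pow_ne_zero _ (Nat.cast_ne_zero.2 (by omega))
      have := hkey n k
      have hreal : (e : ℝ) * ((simplex r (n * k)).card : ℝ) ≤ ((simplex r k).card : ℝ) * (L n : ℝ) := by
        exact_mod_cast this
      push_cast
      rw [mul_pow]
      calc (e : ℝ) * (((simplex r (n * k)).card : ℝ) / ((n : ℝ) ^ r * (k : ℝ) ^ r)) * (n : ℝ) ^ r
          = ((e : ℝ) * ((simplex r (n * k)).card : ℝ)) / (k : ℝ) ^ r := by field_simp
        _ ≤ (((simplex r k).card : ℝ) * (L n : ℝ)) / (k : ℝ) ^ r := div_le_div_of_nonneg_right hreal hk0.le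
        _ = _ := by ring)
    have h3 := mul_le_mul_of_nonneg_left h2 hfac.le
    calc (e : ℝ) * (n : ℝ) ^ r = (r.factorial : ℝ) * ((e : ℝ) * (1 / r.factorial) * (n : ℝ) ^ r) := by field_simp
      _ ≤ (r.factorial : ℝ) * ((1 / r.factorial) * (L n : ℝ)) := h3
      _ = (L n : ℝ) := by field_simp
  have squeeze : ∀ (f g : ℕ → ℝ) (c : ℝ), Tendsto g atTop (𝓝 c) →
      (∀ n : ℕ, 0 < n → g n ≤ f n ∧ f n ≤ g n + (K : ℝ) / n) → Tendsto f atTop (𝓝 c) := by
    intro f g c hg hfg
    have hz : Tendsto (fun n : ℕ => (K : ℝ) / n) atTop (𝓝 0) := tendsto_const_div_atTop_nhds_zero_nat _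
    have hgK := hg.add hz
    rw [add_zero] at hgK
    refine tendsto_of_tendsto_of_tendsto_of_le_of_le' hg hgK ?_ ?_
    · filter_upwards [eventually_ge_atTop 1] with n hn using (hfg n hn).1
    · filter_upwards [eventually_ge_atTop 1] with n hn using (hfg n hn).2
  refine ⟨e, ?_, ?_⟩
  · have hg := (tendsto_simplex r).const_mul (e : ℝ)
    rw [mul_one_div] at hg
    refine squeeze _ _ _ hg fun t ht => ?_
    rw [hlenI, ENat.toNat_coe]
    have ht0 : (0 : ℝ) < (t : ℝ) ^ r := pow_pos (Nat.cast_pos.2 ht) r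
    have h1 : (e : ℝ) * ((simplex r t).card : ℝ) ≤ (a t : ℝ) := by exact_mod_cast lower (simplex r t)
    have h2 : (a t : ℝ) * (t : ℝ) ≤ (e : ℝ) * ((simplex r t).card : ℝ) * (t : ℝ) + (K : ℝ) * (t : ℝ) ^ r := by
      exact_mod_cast upper t (simplex r t) (simplex_subset_box t)
    have ht1 : (0 : ℝ) < (t : ℝ) := Nat.cast_pos.2 ht
    constructor
    · rw [← mul_div_assoc]
      exact div_le_div_of_nonneg_right h1 ht0.le
    · rw [div_le_iff₀ ht0]
      refine le_of_mul_le_mul_right (h2.trans_eq ?_) ht1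
      field_simp
  · refine squeeze _ (fun _ => (e : ℝ)) _ tendsto_const_nhds fun n hn => ?_
    have hn0 : (0 : ℝ) < (n : ℝ) ^ r := pow_pos (Nat.cast_pos.2 hn) r
    have hn1 : (0 : ℝ) < (n : ℝ) := Nat.cast_pos.2 hn
    refine ⟨(le_div_iff₀ hn0).2 (hlow n), ?_⟩
    rw [div_le_iff₀ hn0]
    refine le_of_mul_le_mul_right ?_ hn1
    have h1 : L n ≤ ∑ j, nw x v (box r n) j := by
      rw [← Nat.cast_le (α := ℕ∞), hLcast]; exact hL1 n
    have h2 : L n * n ≤ e * n ^ r * n + K * n ^ r := by
      refine le_trans (Nat.mul_le_mul_right n h1) ?_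
      have := upper n (box r n) Finset.Subset.rfl
      rwa [card_box] at this
    have h3 : (L n : ℝ) * (n : ℝ) ≤ (e : ℝ) * (n : ℝ) ^ r * (n : ℝ) + (K : ℝ) * (n : ℝ) ^ r := by
      exact_mod_cast h2
    refine h3.trans_eq ?_
    field_simp

end Groth.Agent.LechLib
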